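import Mathlib
import Cfsg.Agent.H627.Co3.E7I

/-!
# S1920, `E₇`: the W-lemma (helper79)

`T` a skew similitude whose multiplier `μ` is not a square, `M ∈ Ω` an involution commuting with `T`: the dimension of the
`(-1)`-eigenspace of `M` is divisible by 4.
-/

set_option autoImplicit false

namespace Cfsg.Agent.H79.Co3

open Module

section

variable {F V : Type*} [Field F] [AddCommGroup V] [Module F V] {B : LinearMap.BilinForm F V} {T : V →ₗ[F] V} {μ : F}

/-- a nondegenerate nonzero subspace contains a nonisotropic vector -/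
theorem exists_ani (h2 : (2 : F) ≠ 0) (hs : ∀ u v, B u v = B v u) {U : Submodule F V} (hU : U ≠ ⊥)
    (hn : ∀ u ∈ U, (∀ v ∈ U, B u v = 0) → u = 0) : ∃ u ∈ U, B u u ≠ 0 := by
  by_contra hcon
  push Not at hcon
  apply hU
  rw [Submodule.eq_bot_iff]
  intro u hu
  refine hn u hu fun v hv => ?_
  have h1 := hcon (u + v) (U.add_mem hu hv)
  simp only [map_add, LinearMap.add_apply] at h1
  rw [hcon u hu, hcon v hv, hs v u] at h1
  have h3 : 2 * B u v = 0 := by linear_combination h1
  exact (mul_eq_zero.1 h3).resolve_left h2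

/-- an orthogonal basis in pairs `v`, `T v` -/
theorem exists_pairs [FiniteDimensional F V] (h2 : (2 : F) ≠ 0) (hs : ∀ u v, B u v = B v u) (hμ : μ ≠ 0)
    (hT : ∀ u v, B (T u) (T v) = μ * B u v) (hsk : ∀ u v, B (T u) v = - B u (T v)) :
    ∀ n, ∀ U : Submodule F V, finrank F U ≤ n → (∀ u ∈ U, (∀ v ∈ U, B u v = 0) → u = 0) → (∀ u ∈ U, T u ∈ U) →
      ∃ (m k : ℕ) (w : Fin k → V) (c : F), k = 2 * m ∧ c ≠ 0 ∧ (∀ i, w i ∈ U) ∧ (∀ i j, i ≠ j → B (w i) (w j) = 0) ∧
        (∏ i, B (w i) (w i) = μ ^ m * c ^ 2) ∧ U ≤ Submodule.span F (Set.range w) := by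
  intro n
  induction n with
  | zero =>
    intro U hU _ _
    have h0 : U = ⊥ := Submodule.finrank_eq_zero.1 (Nat.le_zero.1 hU)
    refine ⟨0, 0, Fin.elim0, 1, rfl, one_ne_zero, fun i => i.elim0, fun i => i.elim0, by simp, ?_⟩
    rw [h0]
    exact bot_le
  | succ n ih =>
    intro U hU hn hTU
    by_cases h0 : U = ⊥
    · refine ⟨0, 0, Fin.elim0, 1, rfl, one_ne_zero, fun i => i.elim0, fun i => i.elim0, by simp, ?_⟩
      rw [h0]
      exact bot_le
    obtain ⟨v, hv, hb⟩ := exists_ani h2 hs h0 hn
    have hvT : B v (T v) = 0 := by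
      have h1 : B v (T v) = - B v (T v) := (hs _ _).trans (hsk v v)
      have h3 : (2 : F) * B v (T v) = 0 := by linear_combination h1
      exact (mul_eq_zero.1 h3).resolve_left h2
    have hTv : B (T v) v = 0 := by rw [hs, hvT]
    have hbT : B (T v) (T v) ≠ 0 := by
      rw [hT]
      exact mul_ne_zero hμ hb
    let U' : Submodule F V :=
      { carrier := {u | u ∈ U ∧ B u v = 0 ∧ B u (T v) = 0}
        zero_mem' := ⟨U.zero_mem, by rw [map_zero, LinearMap.zero_apply], by rw [map_zero, LinearMap.zero_apply]⟩
        add_mem' := by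
          rintro a b ⟨ha, ha1, ha2⟩ ⟨hb, hb1, hb2⟩
          refine ⟨U.add_mem ha hb, ?_, ?_⟩
          · rw [map_add, LinearMap.add_apply, ha1, hb1, add_zero]
          · rw [map_add, LinearMap.add_apply, ha2, hb2, add_zero]
        smul_mem' := by
          rintro c a ⟨ha, ha1, ha2⟩
          refine ⟨U.smul_mem c ha, ?_, ?_⟩
          · rw [map_smul, LinearMap.smul_apply, ha1, smul_zero]
          · rw [map_smul, LinearMap.smul_apply, ha2, smul_zero] }
    have hmem : ∀ u, u ∈ U' ↔ u ∈ U ∧ B u v = 0 ∧ B u (T v) = 0 := fun _ => Iff.rfl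
    have hlt : U' < U := by
      refine lt_of_le_of_ne (fun u hu => ((hmem u).1 hu).1) fun h => hb ?_
      rw [← h] at hv
      exact ((hmem v).1 hv).2.1
    have hdec : ∀ u ∈ U, ∃ u' ∈ U', ∃ a b : F, u = a • v + (b • T v + u') := by
      intro u hu
      refine ⟨u - (B u v / B v v) • v - (B u (T v) / B (T v) (T v)) • T v, (hmem _).2 ⟨?_, ?_, ?_⟩,
        B u v / B v v, B u (T v) / B (T v) (T v), by abel⟩
      · exact U.sub_mem (U.sub_mem hu (U.smul_mem _ hv)) (U.smul_mem _ (hTU v hv))
      · rw [map_sub, map_sub, LinearMap.sub_apply, LinearMap.sub_apply, map_smul, map_smul, LinearMap.smul_apply,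
          LinearMap.smul_apply, smul_eq_mul, smul_eq_mul, hTv, div_mul_cancel₀ _ hb]
        ring
      · rw [map_sub, map_sub, LinearMap.sub_apply, LinearMap.sub_apply, map_smul, map_smul, LinearMap.smul_apply,
          LinearMap.smul_apply, smul_eq_mul, smul_eq_mul, hvT, div_mul_cancel₀ _ hbT]
        ring
    obtain ⟨m, k, w, c, hk, hc, hwU, hort, hprod, hspan⟩ := ih U'
      (by have := Submodule.finrank_lt_finrank_of_lt hlt; omega)
      (by
        intro u hu h
        obtain ⟨huU, h1, h3⟩ := (hmem u).1 hu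
        apply hn u huU
        intro x hx
        obtain ⟨x', hx', a, b, rfl⟩ := hdec x hx
        rw [map_add, map_add, map_smul, map_smul, h1, h3, h x' hx', smul_zero, smul_zero, add_zero, add_zero])
      (by
        intro u hu
        obtain ⟨huU, h1, h3⟩ := (hmem u).1 hu
        refine (hmem _).2 ⟨hTU u huU, ?_, ?_⟩
        · rw [hsk, h3, neg_zero]
        · rw [hT, h1, mul_zero])
    have hw := fun i => (hmem _).1 (hwU i)
    refine ⟨m + 1, k + 1 + 1, Fin.cons v (Fin.cons (T v) w), B v v * c, by omega, mul_ne_zero hb hc, ?_, ?_, ?_, ?_⟩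
    · intro i
      refine Fin.cases ?_ (fun i => ?_) i
      · exact hv
      · rw [Fin.cons_succ]
        refine Fin.cases ?_ (fun i => ?_) i
        · exact hTU v hv
        · rw [Fin.cons_succ]
          exact (hw i).1
    · intro i j
      refine Fin.cases ?_ (fun i => ?_) i
      · refine Fin.cases ?_ (fun j => ?_) j
        · intro h
          exact absurd rfl h
        · intro _
          rw [Fin.cons_succ, Fin.cons_zero]
          refine Fin.cases ?_ (fun j => ?_) j
          · exact hvT
          · rw [Fin.cons_succ, hs]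
            exact (hw j).2.1
      · rw [Fin.cons_succ]
        refine Fin.cases ?_ (fun i => ?_) i
        · refine Fin.cases ?_ (fun j => ?_) j
          · intro _
            rw [Fin.cons_zero, Fin.cons_zero]
            exact hTv
          · rw [Fin.cons_succ, Fin.cons_zero]
            refine Fin.cases ?_ (fun j => ?_) j
            · intro h
              exact absurd rfl h
            · intro _
              rw [Fin.cons_succ, hs]
              exact (hw j).2.2
        · rw [Fin.cons_succ]
          refine Fin.cases ?_ (fun j => ?_) j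
          · intro _
            rw [Fin.cons_zero]
            exact (hw i).2.1
          · rw [Fin.cons_succ]
            refine Fin.cases ?_ (fun j => ?_) j
            · intro _
              rw [Fin.cons_zero]
              exact (hw i).2.2
            · intro h
              rw [Fin.cons_succ]
              exact hort i j (fun hij => h (by rw [hij]))
    · rw [Fin.prod_univ_succ, Fin.prod_univ_succ]
      simp only [Fin.cons_succ, Fin.cons_zero]
      rw [hprod, hT]
      ring
    · intro u hu
      obtain ⟨u', hu', a, b, rfl⟩ := hdec u hu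
      rw [Fin.range_cons, Fin.range_cons]
      refine Submodule.mem_span_insert.2 ⟨a, _, Submodule.mem_span_insert.2 ⟨b, u', hspan hu', rfl⟩, rfl⟩

/-- the length of an orthogonal nonisotropic basis -/
theorem linInd_of_orth {ι : Type*} [Fintype ι] {w : ι → V} (hort : ∀ i j, i ≠ j → B (w i) (w j) = 0)
    (h0 : ∀ i, B (w i) (w i) ≠ 0) : LinearIndependent F w := by
  classical
  rw [Fintype.linearIndependent_iff]
  intro g hg i
  have h1 : B (∑ j, g j • w j) (w i) = g i * B (w i) (w i) := by
    rw [map_sum, LinearMap.sum_apply, Finset.sum_eq_single i]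
    · rw [map_smul, LinearMap.smul_apply, smul_eq_mul]
    · intro j _ hj
      rw [map_smul, LinearMap.smul_apply, hort j i hj, smul_zero]
    · intro h
      exact absurd (Finset.mem_univ i) h
  rw [hg, map_zero, LinearMap.zero_apply] at h1
  exact (mul_eq_zero.1 h1.symm).resolve_right (h0 i)

end

open Cfsg.Agent.H627.Co3

variable {F V : Type*} [Field F] [AddCommGroup V] [Module F V] {B : LinearMap.BilinForm F V}

/-- **the W-lemma** -/
theorem w_lemma {G : Type*} [Group G] {z : G} (I : E7I z F B) {M T : Module.End F V} {μ : F} (hM : M ∈ I.Om)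
    (hMM : M * M = 1) (hS : Sym B M) (hTM : T * M = M * T) (hT : ∀ u v, B (T u) (T v) = μ * B u v)
    (hsk : ∀ u v, B (T u) v = - B u (T v)) (hmu : ¬ IsSquare μ) : 4 ∣ finrank F (LinearMap.ker (M + 1)) := by
  classical
  have hfd : FiniteDimensional F V := FiniteDimensional.of_finrank_pos (by rw [I.dim]; norm_num)
  have hμ : μ ≠ 0 := by
    rintro rfl
    exact hmu IsSquare.zero
  have hMM' : ∀ v, M (M v) = v := fun v => congrArg (fun f : Module.End F V => f v) hMM
  have hTM' : ∀ v, T (M v) = M (T v) := fun v => congrArg (fun f : Module.End F V => f v) hTM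
  -- the eigenspaces
  have hmem : ∀ (e : F) (v : V), v ∈ LinearMap.ker (M + e • (1 : Module.End F V)) ↔ M v = -(e • v) := by
    intro e v
    rw [LinearMap.mem_ker, LinearMap.add_apply, LinearMap.smul_apply, Module.End.one_apply, add_eq_zero_iff_eq_neg]
  have h2 := I.two
  have key : ∀ e : F, e * e = 1 → ∃ (m k : ℕ) (w : Fin k → V) (c : F), k = 2 * m ∧ c ≠ 0 ∧
      (∀ i, w i ∈ LinearMap.ker (M + e • (1 : Module.End F V))) ∧ (∀ i j, i ≠ j → B (w i) (w j) = 0) ∧
        (∏ i, B (w i) (w i) = μ ^ m * c ^ 2) ∧
        LinearMap.ker (M + e • (1 : Module.End F V)) ≤ Submodule.span F (Set.range w) := by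
    intro e he
    refine exists_pairs h2 I.symm hμ hT hsk _ _ le_rfl ?_ ?_
    · intro u hu h
      rw [hmem] at hu
      apply I.nd
      intro x
      -- `x = ½ (x - e M x) + ½ (x + e M x)`
      have h3 : B u (x - e • M x) = 0 := by
        apply h
        rw [hmem, map_sub, map_smul, hMM', smul_sub, smul_smul, he, one_smul, neg_sub]
      have h4 : B u (x + e • M x) = 0 := by
        have h5 := hS u x
        rw [hu, map_neg, map_smul, LinearMap.neg_apply, LinearMap.smul_apply, smul_eq_mul] at h5
        rw [map_add, map_smul, smul_eq_mul, ← h5]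
        linear_combination (-(B u x)) * he
      rw [map_sub] at h3
      rw [map_add] at h4
      have h6 : (2 : F) * B u x = 0 := by linear_combination h3 + h4
      exact (mul_eq_zero.1 h6).resolve_left h2
    · intro u hu
      rw [hmem] at hu ⊢
      rw [← hTM', hu, map_neg, map_smul]
  obtain ⟨m, k, w, c, hk, hc, hw, hort, hprod, hspan⟩ := key 1 (one_mul 1)
  obtain ⟨m', k', w', c', hk', hc', hw', hort', hprod', hspan'⟩ := key (-1) (by ring)
  have hw1 : ∀ i, M (w i) = -(w i) := fun i => by rw [(hmem _ _).1 (hw i), one_smul]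
  have hw1' : ∀ i, M (w' i) = w' i := fun i => by rw [(hmem _ _).1 (hw' i), neg_one_smul, neg_neg]
  have hn0 : ∀ i, B (w i) (w i) ≠ 0 := by
    intro i h
    have := Finset.prod_eq_zero (f := fun i => B (w i) (w i)) (Finset.mem_univ i) h
    rw [hprod] at this
    exact mul_ne_zero (pow_ne_zero _ hμ) (pow_ne_zero _ hc) this
  have hn0' : ∀ i, B (w' i) (w' i) ≠ 0 := by
    intro i h
    have := Finset.prod_eq_zero (f := fun i => B (w' i) (w' i)) (Finset.mem_univ i) h
    rw [hprod'] at this
    exact mul_ne_zero (pow_ne_zero _ hμ) (pow_ne_zero _ hc') this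
  have hcross : ∀ i j, B (w i) (w' j) = 0 := by
    intro i j
    have h3 := hS (w i) (w' j)
    rw [hw1, hw1', map_neg, LinearMap.neg_apply] at h3
    have h4 : (2 : F) * B (w i) (w' j) = 0 := by linear_combination -h3
    exact (mul_eq_zero.1 h4).resolve_left h2
  -- the combined family
  have hli : LinearIndependent F (Sum.elim w w') := by
    refine linInd_of_orth (B := B) ?_ ?_
    · rintro (i | i) (j | j) hij
      · exact hort i j fun h => hij (by rw [h])
      · exact hcross i j
      · rw [Sum.elim_inr, Sum.elim_inl, I.symm]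
        exact hcross j i
      · exact hort' i j fun h => hij (by rw [h])
    · rintro (i | i)
      · exact hn0 i
      · exact hn0' i
  have hsp : ⊤ ≤ Submodule.span F (Set.range (Sum.elim w w')) := by
    intro x _
    have h3 : x = (2 : F)⁻¹ • (x - M x) + (2 : F)⁻¹ • (x + M x) := by
      rw [← smul_add, sub_add_add_cancel, ← two_smul F, smul_smul, inv_mul_cancel₀ h2, one_smul]
    rw [h3, Set.Sum.elim_range, Submodule.span_union]
    refine Submodule.add_mem_sup (Submodule.smul_mem _ _ (hspan ?_)) (Submodule.smul_mem _ _ (hspan' ?_))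
    · rw [hmem, map_sub, hMM', one_smul, neg_sub]
    · rw [hmem, map_add, hMM', neg_one_smul, neg_neg, add_comm]
  let b : Basis (Fin k ⊕ Fin k') F V := Basis.mk hli hsp
  have hb : ∀ x, b x = Sum.elim w w' x := fun x => Basis.mk_apply hli hsp x
  have hcard : k + k' = 12 := by
    have h3 := finrank_eq_card_basis b
    rw [Fintype.card_sum, Fintype.card_fin, Fintype.card_fin, I.dim] at h3
    exact h3.symm
  let e : Fin k ⊕ Fin k' ≃ Fin 12 := finSumFinEquiv.trans (finCongr hcard)
  let v : Basis (Fin 12) F V := b.reindex e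
  have hv : ∀ x, v (e x) = Sum.elim w w' x := by
    intro x
    rw [Basis.reindex_apply, Equiv.symm_apply_apply, hb]
  let J : Finset (Fin 12) := Finset.univ.map (Function.Embedding.inl.trans e.toEmbedding)
  have hJl : ∀ i : Fin k, e (Sum.inl i) ∈ J := fun i => Finset.mem_map.2 ⟨i, Finset.mem_univ _, rfl⟩
  have hJr : ∀ i : Fin k', e (Sum.inr i) ∉ J := by
    intro i h
    obtain ⟨j, -, hj⟩ := Finset.mem_map.1 h
    have h3 : e (Sum.inl j) = e (Sum.inr i) := hj
    exact absurd (e.injective h3) Sum.inl_ne_inr
  have hMs : M = sgn v J := by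
    refine v.ext fun j => ?_
    obtain ⟨x, rfl⟩ := e.surjective j
    rw [sgn, Basis.constr_basis, hv]
    rcases x with i | i
    · rw [if_pos (hJl i), Sum.elim_inl, hw1]
    · rw [if_neg (hJr i), Sum.elim_inr, hw1']
  have hsg := (I.signs v ?_ J).1 (hMs ▸ hM)
  · have hP : ∏ j ∈ J, B (v j) (v j) = μ ^ m * c ^ 2 := by
      rw [Finset.prod_map, ← hprod]
      refine Finset.prod_congr rfl fun i _ => ?_
      show B (v (e (Sum.inl i))) (v (e (Sum.inl i))) = _
      rw [hv, Sum.elim_inl]
    obtain ⟨-, s, hs⟩ := hsg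
    rw [hP] at hs
    have hm : Even m := by
      by_contra hodd
      rw [Nat.not_even_iff_odd] at hodd
      obtain ⟨t, rfl⟩ := hodd
      apply hmu
      refine ⟨s / (μ ^ t * c), ?_⟩
      have h3 : μ ^ t ≠ 0 := pow_ne_zero _ hμ
      field_simp
      rw [← pow_two] at hs
      rw [← hs]
      ring
    have hdim : finrank F (LinearMap.ker (M + 1)) = k := by
      have h3 : LinearMap.ker (M + 1) = Submodule.span F (Set.range w) := by
        have h4 : LinearMap.ker (M + (1 : F) • (1 : Module.End F V)) = LinearMap.ker (M + 1) := by rw [one_smul]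
        rw [← h4]
        refine le_antisymm hspan (Submodule.span_le.2 ?_)
        rintro _ ⟨i, rfl⟩
        exact hw i
      rw [h3, finrank_span_eq_card (linInd_of_orth hort hn0), Fintype.card_fin]
    rw [hdim, hk]
    obtain ⟨t, ht⟩ := hm
    exact ⟨t, by omega⟩
  · intro i j hij
    obtain ⟨x, rfl⟩ := e.surjective i
    obtain ⟨y, rfl⟩ := e.surjective j
    rw [hv, hv]
    have hxy : x ≠ y := fun h => hij (by rw [h])
    rcases x with i | i <;> rcases y with j | j
    · exact hort i j fun h => hxy (by rw [h])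
    · exact hcross i j
    · rw [Sum.elim_inr, Sum.elim_inl, I.symm]
      exact hcross j i
    · exact hort' i j fun h => hxy (by rw [h])

end Cfsg.Agent.H79.Co3
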